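import Groth.Agent.Lib.StAlg16.LocQApps
import Groth.Agent.Lib.StAlg16.Squares
import Groth.Agent.Lib.StAlg16.DiagIff
import Groth.Agent.Lib.StAlg16.QCMor
import Groth.Agent.Lib.AlgSpace.Bootstrap
import Groth.Agent.Lib.AlgSpDescent.RepBase2
import Groth.Prelude.Def_AlgSt4

/-!
# Monomorphisms locally of finite type to a stack: reduction to a chart
-/

universe u

open CategoryTheory CategoryTheory.Functor CategoryTheory.Limits AlgebraicGeometry Opposite

set_option linter.style.haveILetI false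
set_option backward.isDefEq.respectTransparency false
set_option backward.isDefEq.respectTransparency.types false

namespace Groth.Agent.MonoQC16

open Groth.Agent.FC16 hiding overMap
open Groth.Agent.StAlg Groth.Agent.StAlg16 AlgSt

variable {S : Scheme.{u}} {P : MorphismProperty (AlgSp.Sp S)} {𝒳 𝒴 : AlgSt.Cat S}

/-- a property of a map of schemes gives the property of the map of slices -/
theorem with_overMap_of_repWith {R : MorphismProperty Scheme.{u}} [R.IsStableUnderBaseChange]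
    (hRP : ∀ ⦃X : AlgSp.Sp S⦄ ⦃T : Over S⦄ (b : X ⟶ (AlgSp.yon S).obj T), AlgSp.IsAlgSpace X → AlgSp.RepWith R b → P b)
    {U V : Over S} (k : U ⟶ V) (hk : R k.left) : AlgSt.RepByAlgSpWith P (AlgSt.overMap k) :=
  (with_congr (f := AlgSt.overMap k) (a := AlgSt.toOverCat U) (b := AlgSt.toOverCat V)
    (toOverCat_isEquivOver U) (toOverCat_isEquivOver V) (overMapIso k)).2
    (with_ofPshMap ((AlgSp.repBySpWith_hom_iff P ((AlgSp.yon S).map k)).2 fun T ξ F' fst snd sq => by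
      have h := AlgSpace.repWith_of_isPullback sq ((AlgSp.repWith_yon_map_iff R k).2 hk)
      obtain ⟨W, ⟨e⟩⟩ : ∃ W : Over S, Nonempty ((AlgSp.yon S).obj W ≅ F') :=
        ⟨h.1.pullback (𝟙 _), ⟨(h.1.isPullback (𝟙 _)).flip.isoIsPullback _ _
          (IsPullback.of_vert_isIso (fst := snd) (snd := 𝟙 F') (f := 𝟙 _) (g := snd) ⟨by simp⟩)⟩⟩
      exact ⟨(AlgSp.IsAlgSpace.yon_obj W).of_iso e, hRP snd ((AlgSp.IsAlgSpace.yon_obj W).of_iso e) h⟩))

/-- the property of a map of slices is had by the map of spaces -/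
theorem yon_map_of_with_overMap (hPi : PreIso P) {U V : Over S} (k : U ⟶ V)
    (hk : AlgSt.RepByAlgSpWith P (AlgSt.overMap k)) : P ((AlgSp.yon S).map k) := by
  have h1 := repBySpWith_of_with hPi ((with_congr (f := AlgSt.overMap k) (a := AlgSt.toOverCat U)
    (b := AlgSt.toOverCat V) (toOverCat_isEquivOver U) (toOverCat_isEquivOver V) (overMapIso k)).1 hk)
  exact (h1 (𝟙 _) (𝟙 _) ((AlgSp.yon S).map k).hom (IsPullback.of_horiz_isIso ⟨by simp⟩)).2.2

/-- A monomorphism locally of finite type is given by a monomorphism of schemes over every chart. -/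
theorem exists_chart (h𝒳 : FibCat.IsFibGrpd 𝒳.p) (h𝒴 : FibCat.IsFibGrpd 𝒴.p) {f : 𝒴 ⥤ᵇ 𝒳}
    (hm : AlgSt.IsMono f) (hl : AlgSt.RepByAlgSpWith (AlgSp.LocP @LocallyOfFinitePresentation) f)
    {U : Over S} (x : FibCat.overCat U ⥤ᵇ 𝒳) :
    ∃ (W : Over S) (π : W ⟶ U) (E : FibCat.overCat W ⥤ᵇ FibCat.fp x f), FibCat.IsEquivOver E ∧
      Nonempty (BasedFunctor.comp E (FibCat.fpFst x f) ≅ AlgSt.overMap π) ∧
      Mono π.left ∧ LocallyOfFinitePresentation π.left := by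
  obtain ⟨F, e, he, hF⟩ := (StAlg16.with_inf goodP_mono.preIso (preIso_of_pullback pbP_locP) h𝒴 h𝒳 hm hl) U x
  haveI : Mono (AlgSt.spMapOfOver (BasedFunctor.comp e (FibCat.fpFst x f))) := hF.1
  obtain ⟨W, ⟨i⟩⟩ := AlgSpace.exists_iso_yon_of_mono_lft F.property
    (AlgSt.spMapOfOver (BasedFunctor.comp e (FibCat.fpFst x f)))
    (AlgSpace.locP_mono (fun A B g (hg : LocallyOfFinitePresentation g) =>
      (inferInstance : LocallyOfFiniteType g)) hF.2)
  have hE : FibCat.IsEquivOver (BasedFunctor.comp (AlgSt.ofOverCat W) (BasedFunctor.comp (AlgSt.ofSpMap i.hom) e)) := by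
    haveI : IsIso i.hom.hom := inferInstanceAs (IsIso ((sheafToPresheaf _ _).map i.hom))
    exact isEquivOver_comp (ofOverCat_isEquivOver W)
      (isEquivOver_comp (ofPshMap_isEquivOver (i.hom.hom)) he)
  let E := BasedFunctor.comp (AlgSt.ofOverCat W) (BasedFunctor.comp (AlgSt.ofSpMap i.hom) e)
  obtain ⟨π, ⟨j⟩⟩ := exists_overMap_iso (BasedFunctor.comp E (FibCat.fpFst x f))
  have hπ : AlgSt.RepByAlgSpWith (MorphismProperty.monomorphisms (AlgSp.Sp S) ⊓
      AlgSp.LocP @LocallyOfFinitePresentation) (AlgSt.overMap π) :=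
    (with_congr (f := FibCat.fpFst x f) (f' := AlgSt.overMap π) (a := E) (b := BasedFunctor.id _) hE isEquivOver_id
      j.symm).1 (with_fpFst x (StAlg16.with_inf goodP_mono.preIso (preIso_of_pullback pbP_locP) h𝒴 h𝒳 hm hl))
  refine ⟨W, π, E, hE, ⟨j⟩, ?_, of_with_locP_overMap π (repByAlgSpWith_mono (fun _ _ _ _ ha => ha.2) hπ)⟩
  haveI : Mono ((AlgSp.yon S).map π) := yon_map_of_with_overMap goodP_mono.preIso π
    (repByAlgSpWith_mono (fun _ _ _ _ ha => ha.1) hπ)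
  constructor
  intro Z a b hab
  let a' : Over.mk (a ≫ W.hom) ⟶ W := Over.homMk a rfl
  let b' : Over.mk (a ≫ W.hom) ⟶ W := Over.homMk b (by
    show b ≫ W.hom = a ≫ W.hom
    rw [← Over.w π, ← Category.assoc, ← hab, Category.assoc])
  have h2 : a' ≫ π = b' ≫ π := Over.OverMorphism.ext hab
  have h3 : (AlgSp.yon S).map a' = (AlgSp.yon S).map b' := (cancel_mono ((AlgSp.yon S).map π)).1 (by
    rw [← Functor.map_comp, ← Functor.map_comp, h2])
  exact congrArg CommaMorphism.left ((AlgSp.yon S).map_injective h3)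

section Dictionary

variable {f : 𝒴 ⥤ᵇ 𝒳} {U W : Over S} {x : FibCat.overCat U ⥤ᵇ 𝒳} {π : W ⟶ U}
  {E : FibCat.overCat W ⥤ᵇ FibCat.fp x f}

/-- maps to the chart give objects -/
theorem obj_of_lift (j : BasedFunctor.comp E (FibCat.fpFst x f) ≅ AlgSt.overMap π) {T : Over S} {c : T ⟶ U}
    (l : T ⟶ W) (hl : l ≫ π = c) :
    ∃ y : FibCat.overCat T ⥤ᵇ 𝒴, Nonempty (BasedFunctor.comp y f ≅ BasedFunctor.comp (AlgSt.overMap c) x) :=
  ⟨BasedFunctor.comp (AlgSt.overMap l) (BasedFunctor.comp E (FibCat.fpSnd x f)),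
    ⟨wlIso (AlgSt.overMap l) ((wlIso E (FibCat.fpIso x f)).symm ≪≫ wrIso j x) ≪≫
      wrIso (overMapComp l π ≪≫ eqToIso (congrArg AlgSt.overMap hl)) x⟩⟩

/-- objects give maps to the chart -/
theorem lift_of_obj (hE : FibCat.IsEquivOver E) (j : BasedFunctor.comp E (FibCat.fpFst x f) ≅ AlgSt.overMap π)
    {T : Over S} (c : T ⟶ U) (y : FibCat.overCat T ⥤ᵇ 𝒴)
    (i : BasedFunctor.comp y f ≅ BasedFunctor.comp (AlgSt.overMap c) x) : ∃ l : T ⟶ W, l ≫ π = c := by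
  obtain ⟨E', -, ⟨η₁⟩, ⟨η₂⟩⟩ := exists_inverse hE
  let t : FibCat.overCat T ⥤ᵇ FibCat.fp x f := FibCat.fpLift (AlgSt.overMap c) y i.symm
  obtain ⟨l, ⟨k⟩⟩ := exists_overMap_iso (BasedFunctor.comp t E')
  exact ⟨l, eq_of_overMap_iso ((overMapComp l π).symm ≪≫ wlIso (AlgSt.overMap l) j.symm ≪≫
    wrIso k.symm (BasedFunctor.comp E (FibCat.fpFst x f)) ≪≫ wrIso (wlIso t η₂) (FibCat.fpFst x f))⟩

end Dictionary

/-- descent from a chart -/
theorem with_of_chart (hPb : PbP P) (hP : AlgSp.IsLocalOnBase AlgSp.IsFppfCover P)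
    (h𝒳 : FibCat.IsFibGrpd 𝒳.p) (h𝒴 : FibCat.IsFibGrpd 𝒴.p) {f : 𝒴 ⥤ᵇ 𝒳} (hf : AlgSt.RepByAlgSp1 f)
    {U W : Over S} {x : FibCat.overCat U ⥤ᵇ 𝒳} (hx : AlgSt.RepByAlgSpWith (AlgSp.LocP @Smooth) x)
    (hxs : AlgSt.RepByAlgSpWith AlgSp.IsSurjectiveMor x) {π : W ⟶ U} {E : FibCat.overCat W ⥤ᵇ FibCat.fp x f}
    (hE : FibCat.IsEquivOver E) (j : BasedFunctor.comp E (FibCat.fpFst x f) ≅ AlgSt.overMap π)
    (hπ : AlgSt.RepByAlgSpWith P (AlgSt.overMap π)) : AlgSt.RepByAlgSpWith P f :=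
  with_of_fpFst_cover hPb hP h𝒴 h𝒳 (overCat_isFibGrpd U) hf
    (repByAlgSpWith_mono (fun _ _ _ _ ha => AlgSpace.locP_mono smooth_le_flat ha) hx)
    (repByAlgSpWith_mono (fun _ _ _ _ ha => AlgSpace.locP_mono smooth_le_lfp ha) hx) hxs
    ((with_congr (f := FibCat.fpFst x f) (f' := AlgSt.overMap π) (a := E) (b := BasedFunctor.id _) hE isEquivOver_id
      j.symm).2 hπ)

end Groth.Agent.MonoQC16
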