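import Groth.Agent.Lib.MonoQC16.Basic
import Groth.Agent.Lib.AlgSpace.QC
import Groth.Agent.S15348
import Groth.Agent.S15349
import Groth.Prelude.Def_AlgSt3

/-!
# Quasi-compactness and immersion criteria for monomorphisms of stacks
-/

universe u

open CategoryTheory CategoryTheory.Functor CategoryTheory.Limits AlgebraicGeometry Opposite

set_option linter.style.haveILetI false
set_option backward.isDefEq.respectTransparency false
set_option backward.isDefEq.respectTransparency.types false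

namespace Groth.Agent.MonoQC16

open Groth.Agent.FC16 hiding overMap
open Groth.Agent.StAlg Groth.Agent.StAlg16 AlgSt

variable {S : Scheme.{u}} {𝒳 𝒴 : AlgSt.Cat S}

/-- lifting from a dense set of points to a nonempty open -/
def DenseLift (f : 𝒴 ⥤ᵇ 𝒳) : Prop :=
  ∀ (A : Type u) [CommRing A] [IsDomain A] (sA : Spec (CommRingCat.of A) ⟶ S)
      (a : FibCat.overCat (Over.mk sA) ⥤ᵇ 𝒳) (D : Set ↥(Spec (CommRingCat.of A))), Dense D →
      (∀ p ∈ D, ∃ yp : FibCat.overCat (Over.mk ((Spec (CommRingCat.of A)).fromSpecResidueField p ≫ sA)) ⥤ᵇ 𝒴,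
          Nonempty (BasedFunctor.comp yp f ≅ BasedFunctor.comp (AlgSt.overMap (Over.homMk ((Spec (CommRingCat.of A)).fromSpecResidueField p) rfl : Over.mk (((Spec (CommRingCat.of A)).fromSpecResidueField p) ≫ sA) ⟶ Over.mk sA)) a)) →
      ∃ U : (Spec (CommRingCat.of A)).Opens, (U : Set ↥(Spec (CommRingCat.of A))).Nonempty ∧
        ∃ yU : FibCat.overCat (Over.mk (U.ι ≫ sA)) ⥤ᵇ 𝒴,
          Nonempty (BasedFunctor.comp yU f ≅ BasedFunctor.comp (AlgSt.overMap (Over.homMk (U.ι) rfl : Over.mk ((U.ι) ≫ sA) ⟶ Over.mk sA)) a)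

/-- lifting along discrete valuation rings -/
def DVRLift (f : 𝒴 ⥤ᵇ 𝒳) : Prop :=
  ∀ (A : Type u) [CommRing A] [IsDomain A] [IsDiscreteValuationRing A] (K : Type u) [Field K] [Algebra A K]
      [IsFractionRing A K] (sA : Spec (CommRingCat.of A) ⟶ S) (a : FibCat.overCat (Over.mk sA) ⥤ᵇ 𝒳),
      (∃ yK : FibCat.overCat (Over.mk (Spec.map (CommRingCat.ofHom (algebraMap A K)) ≫ sA)) ⥤ᵇ 𝒴,
          Nonempty (BasedFunctor.comp yK f ≅ BasedFunctor.comp (AlgSt.overMap (Over.homMk (Spec.map (CommRingCat.ofHom (algebraMap A K))) rfl : Over.mk ((Spec.map (CommRingCat.ofHom (algebraMap A K))) ≫ sA) ⟶ Over.mk sA)) a)) →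
      (∃ yk : FibCat.overCat (Over.mk (Spec.map (CommRingCat.ofHom (IsLocalRing.residue A)) ≫ sA)) ⥤ᵇ 𝒴,
          Nonempty (BasedFunctor.comp yk f ≅ BasedFunctor.comp (AlgSt.overMap (Over.homMk (Spec.map (CommRingCat.ofHom (IsLocalRing.residue A))) rfl : Over.mk ((Spec.map (CommRingCat.ofHom (IsLocalRing.residue A))) ≫ sA) ⟶ Over.mk sA)) a)) →
      ∃ y : FibCat.overCat (Over.mk sA) ⥤ᵇ 𝒴, Nonempty (BasedFunctor.comp y f ≅ a)

section Chart

variable {f : 𝒴 ⥤ᵇ 𝒳} {U W : Over S} {x : FibCat.overCat U ⥤ᵇ 𝒳} {π : W ⟶ U}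
  {E : FibCat.overCat W ⥤ᵇ FibCat.fp x f}

/-- the composite structure -/
theorem obj_of_left_lift (j : BasedFunctor.comp E (FibCat.fpFst x f) ≅ AlgSt.overMap π) {T : Scheme.{u}}
    {t : T ⟶ U.left} {B : Scheme.{u}} {s : B ⟶ U.left} (g : T ⟶ B) (hg : g ≫ s = t) (l : T ⟶ W.left)
    (hl : l ≫ π.left = t) :
    ∃ y : FibCat.overCat (Over.mk (g ≫ s ≫ U.hom)) ⥤ᵇ 𝒴, Nonempty (BasedFunctor.comp y f ≅
      BasedFunctor.comp (AlgSt.overMap (Over.homMk g rfl : Over.mk (g ≫ s ≫ U.hom) ⟶ Over.mk (s ≫ U.hom)))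
        (BasedFunctor.comp (AlgSt.overMap (Over.homMk s rfl : Over.mk (s ≫ U.hom) ⟶ U)) x)) := by
  subst hg
  obtain ⟨y, ⟨i⟩⟩ := obj_of_lift j (T := Over.mk (g ≫ s ≫ U.hom))
    (c := (Over.homMk g rfl : Over.mk (g ≫ s ≫ U.hom) ⟶ Over.mk (s ≫ U.hom)) ≫
      (Over.homMk s rfl : Over.mk (s ≫ U.hom) ⟶ U))
    (Over.homMk l (by
      show l ≫ W.hom = g ≫ s ≫ U.hom
      rw [← Over.w π, reassoc_of% hl]))
    (Over.OverMorphism.ext hl)
  exact ⟨y, ⟨i ≪≫ wrIso (overMapComp _ _).symm x⟩⟩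

/-- objects give lifts of the underlying maps -/
theorem left_lift_of_obj (hE : FibCat.IsEquivOver E) (j : BasedFunctor.comp E (FibCat.fpFst x f) ≅ AlgSt.overMap π)
    {T B : Scheme.{u}} {s : B ⟶ U.left} (g : T ⟶ B) (y : FibCat.overCat (Over.mk (g ≫ s ≫ U.hom)) ⥤ᵇ 𝒴)
    (i : BasedFunctor.comp y f ≅
      BasedFunctor.comp (AlgSt.overMap (Over.homMk g rfl : Over.mk (g ≫ s ≫ U.hom) ⟶ Over.mk (s ≫ U.hom)))
        (BasedFunctor.comp (AlgSt.overMap (Over.homMk s rfl : Over.mk (s ≫ U.hom) ⟶ U)) x)) :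
    ∃ l : T ⟶ W.left, l ≫ π.left = g ≫ s := by
  obtain ⟨l, hl⟩ := lift_of_obj hE j
    ((Over.homMk g rfl : Over.mk (g ≫ s ≫ U.hom) ⟶ Over.mk (s ≫ U.hom)) ≫
      (Over.homMk s rfl : Over.mk (s ≫ U.hom) ⟶ U)) y (i ≪≫ wrIso (overMapComp _ _) x)
  exact ⟨l.left, congrArg CommaMorphism.left hl⟩

/-- the dense lifting hypothesis on the chart -/
theorem denseLift_chart (hE : FibCat.IsEquivOver E) (j : BasedFunctor.comp E (FibCat.fpFst x f) ≅ AlgSt.overMap π)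
    (hc : DenseLift f) (A : Type u) [CommRing A] [IsDomain A] (s : Spec (CommRingCat.of A) ⟶ U.left)
    (D : Set ↥(Spec (CommRingCat.of A))) (hD : Dense D)
    (hp : ∀ p ∈ D, ∃ l : Spec ((Spec (CommRingCat.of A)).residueField p) ⟶ W.left,
      l ≫ π.left = (Spec (CommRingCat.of A)).fromSpecResidueField p ≫ s) :
    ∃ O : (Spec (CommRingCat.of A)).Opens, (O : Set ↥(Spec (CommRingCat.of A))).Nonempty ∧
      ∃ l : (O : Scheme.{u}) ⟶ W.left, l ≫ π.left = O.ι ≫ s := by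
  obtain ⟨O, hO, yU, ⟨i⟩⟩ := hc A (s ≫ U.hom)
    (BasedFunctor.comp (AlgSt.overMap (Over.homMk s rfl : Over.mk (s ≫ U.hom) ⟶ U)) x) D hD fun p hpD => by
      obtain ⟨l, hl⟩ := hp p hpD
      exact obj_of_left_lift j _ rfl l hl
  exact ⟨O, hO, left_lift_of_obj hE j O.ι yU i⟩

/-- the valuative hypothesis on the chart -/
theorem dvrLift_chart (hE : FibCat.IsEquivOver E) (j : BasedFunctor.comp E (FibCat.fpFst x f) ≅ AlgSt.overMap π)
    [Mono π.left] (hb : DVRLift f) (Q : ValuativeCommSq π.left) (hQ : IsDiscreteValuationRing Q.R)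
    (h₀ : ∃ l₀ : Spec (CommRingCat.of (IsLocalRing.ResidueField Q.R)) ⟶ W.left,
      l₀ ≫ π.left = Spec.map (CommRingCat.ofHom (IsLocalRing.residue Q.R)) ≫ Q.i₂) :
    Q.commSq.HasLift := by
  haveI := hQ
  obtain ⟨l₀, hl₀⟩ := h₀
  obtain ⟨y, ⟨i⟩⟩ := hb Q.R Q.K (Q.i₂ ≫ U.hom)
    (BasedFunctor.comp (AlgSt.overMap (Over.homMk Q.i₂ rfl : Over.mk (Q.i₂ ≫ U.hom) ⟶ U)) x)
    (obj_of_left_lift j _ rfl Q.i₁ Q.commSq.w) (obj_of_left_lift j _ rfl l₀ hl₀)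
  obtain ⟨l, hl⟩ := lift_of_obj hE j (Over.homMk Q.i₂ rfl : Over.mk (Q.i₂ ≫ U.hom) ⟶ U) y i
  have hl' : l.left ≫ π.left = Q.i₂ := congrArg CommaMorphism.left hl
  exact ⟨⟨⟨l.left, (cancel_mono π.left).1 (by rw [Category.assoc, hl']; exact Q.commSq.w.symm), hl'⟩⟩⟩

end Chart

/-- Monomorphisms with the dense lifting property are quasi-compact. -/
theorem with_isQuasiCompactMor (h𝒳 : IsAlgStack Scheme.fppfPrecoverage 𝒳) (h𝒴 : IsAlgStack Scheme.fppfPrecoverage 𝒴)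
    (hn : AlgSt.SmoothLocally (fun X => IsLocallyNoetherian X) 𝒳) (f : 𝒴 ⥤ᵇ 𝒳) (hrep : AlgSt.RepByAlgSp1 f)
    (hl : AlgSt.RepByAlgSpWith (AlgSp.LocP @LocallyOfFinitePresentation) f) (hm : AlgSt.IsMono f)
    (hc : DenseLift f) : AlgSt.RepByAlgSpWith AlgSp.IsQuasiCompactMor f := by
  obtain ⟨U, x, hx, hxs⟩ := h𝒳.atlas
  haveI : IsLocallyNoetherian U.left := hn U x hx
  obtain ⟨W, π, E, hE, ⟨j⟩, hmono, hfp⟩ := exists_chart h𝒳.isStack.1 h𝒴.isStack.1 hm hl x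
  have hq : QuasiCompact π.left :=
    Groth.Agent.S15349.result π.left fun A _ _ s D hD hp => denseLift_chart hE j hc A s D hD hp
  exact with_of_chart (fun _ _ _ _ _ _ _ _ _ _ _ _ sq h => AlgSpace.isQuasiCompactMor_of_isPullback sq h)
    (isLocalOnBase_fppf_of_fpqc AlgSpDescent.isLocalOnBase_fpqc_isQuasiCompactMor)
    h𝒳.isStack.1 h𝒴.isStack.1 hrep hx hxs hE j
    (with_overMap_of_repWith (R := @QuasiCompact)
      (fun X T b hX h => (AlgSpace.repWith_quasiCompact_iff hX (AlgSp.IsAlgSpace.yon_obj T) h.1).1 h) π hq)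

/-- Monomorphisms with both lifting properties are quasi-compact immersions. -/
theorem with_qcImmersion (h𝒳 : IsAlgStack Scheme.fppfPrecoverage 𝒳) (h𝒴 : IsAlgStack Scheme.fppfPrecoverage 𝒴)
    (hn : AlgSt.SmoothLocally (fun X => IsLocallyNoetherian X) 𝒳) (f : 𝒴 ⥤ᵇ 𝒳) (hrep : AlgSt.RepByAlgSp1 f)
    (hl : AlgSt.RepByAlgSpWith (AlgSp.LocP @LocallyOfFinitePresentation) f) (hm : AlgSt.IsMono f)
    (hb : DVRLift f) (hc : DenseLift f) :
    AlgSt.RepByAlgSpWith (AlgSp.RepWith (@IsImmersion ⊓ @QuasiCompact)) f := by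
  obtain ⟨U, x, hx, hxs⟩ := h𝒳.atlas
  haveI : IsLocallyNoetherian U.left := hn U x hx
  obtain ⟨W, π, E, hE, ⟨j⟩, hmono, hfp⟩ := exists_chart h𝒳.isStack.1 h𝒴.isStack.1 hm hl x
  have hc' := fun A [CommRing A] [IsDomain A] s D hD hp => denseLift_chart (A := A) hE j hc s D hD hp
  have hq : QuasiCompact π.left := Groth.Agent.S15349.result π.left hc'
  have hi : IsImmersion π.left := Groth.Agent.S15348.result π.left (fun Q hQ h₀ => dvrLift_chart hE j hb Q hQ h₀) hc'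
  exact with_of_chart (fun _ _ _ _ _ _ _ _ _ _ _ _ sq h => AlgSpace.repWith_of_isPullback sq h)
    (isLocalOnBase_fppf_of_fpqc AlgSpDescent.isLocalOnBase_fpqc_repWith_qcImmersion)
    h𝒳.isStack.1 h𝒴.isStack.1 hrep hx hxs hE j
    (with_overMap_of_repWith (R := @IsImmersion ⊓ @QuasiCompact) (fun X T b _ h => h) π ⟨hi, hq⟩)

end Groth.Agent.MonoQC16
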